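/-
Certificate data of a coset enumeration: the closed table.
-/
import Cfsg.Agent.Lib.J1Unique.CertA.Data

set_option autoImplicit false
set_option maxRecDepth 1000000

namespace CfsgLib.J1Unique.CertA

open CfsgLib.CosetEnum

/-- Rows from 0. -/
def rows0 : List (List ℕ) := [[0x0, 0x1, 0x2, 0x2, 0x12b5, 0x12b6]]

theorem rows0_ok : J1Unique.Data.gokRows data rep 1 4791 0 rows0 = true := by decide +kernel

theorem rows0_len : rows0.length = 1 := by decide +kernel

end CfsgLib.J1Unique.CertA
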